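import Groth.Agent.H95.CycAlg.Cover

/-!
# Generators of the normal cyclic cover

The setting and the first part of the argument are those of `Groth.Agent.H95.CycAlg.Cover.main`; here we
extract that the cover is free and generated by a unit `ω` and a root `σ` of `ω^i f`.
-/

set_option autoImplicit false
set_option linter.style.haveILetI false
universe u

namespace Groth.Agent.H12.CycNCD

open Polynomial Groth.Agent.H95.CycAlg Groth.Agent.H95.CycAlg.Integral Groth.Agent.H95.CycAlg.Cover

variable {B : Type u} [CommRing B] [IsDomain B] [IsIntegrallyClosed B]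
  {B' : Type u} [CommRing B'] [Algebra B B'] {g : B} [IsLocalization.Away g B'] {N : ℕ} (φ : B)

local notation "P'" => (X ^ N - C (algebraMap B B' φ) : B'[X])
local notation "C'" => AdjoinRoot P'
local notation "ρ" => AdjoinRoot.root P'

variable {A : Type u} [CommRing A] [Algebra B A] [Module.Finite B A]

set_option maxHeartbeats 1600000 in
/-- The normal cyclic cover is `B[σ, ω]`. -/
theorem exists_generators [IsNoetherianRing B] (f : B) (u₀ : Bˣ) (α : ℕ) (hφ : φ = (u₀ : B) * f ^ α)
    (hg : g ≠ 0) (hfg : f ∣ g) (hN : 0 < N) {ζ : B} (hζ : IsPrimitiveRoot ζ N) (hNu : IsUnit (N : B))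
    (hred : ∀ x (n : ℕ), f ∣ x ^ n → f ∣ x)
    (hnorm : ∀ (Q : Ideal A) [Q.IsMaximal], IsDomain (Localization.AtPrime Q) ∧
      IsIntegrallyClosed (Localization.AtPrime Q))
    (t : A) (ι : A →ₐ[B] C') (hι : Function.Injective ι) (hιt : ι t = ρ) :
    ∃ (σ ω : A) (d m i : ℕ), d ∣ N ∧ 0 < m ∧ m = N / Nat.gcd N α ∧ ω ^ d = algebraMap B A (u₀ : B) ∧
      σ ^ m = ω ^ i * algebraMap B A f ∧ Algebra.adjoin B ({σ, ω} : Set A) = ⊤ ∧
      Module.Flat B A := by
  classical
  have hinjB : Function.Injective (algebraMap B B') := inj_away hg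
  have hf0 : f ≠ 0 := fun h => hg (zero_dvd_iff.mp (h ▸ hfg))
  have hgu : IsUnit (algebraMap B B' g) := IsLocalization.Away.algebraMap_isUnit g
  obtain ⟨g', hg'⟩ := hfg
  have hfu : IsUnit (algebraMap B C' f) := by
    rw [IsScalarTower.algebraMap_apply B B' C']
    refine IsUnit.map _ (isUnit_of_mul_isUnit_left (y := algebraMap B B' g') ?_)
    rw [← map_mul, ← hg']
    exact hgu
  obtain ⟨v, hv⟩ := hfu.exists_right_inv
  have hρN : ρ ^ N = algebraMap B C' φ := by
    rw [root_pow, ← IsScalarTower.algebraMap_apply B B' C']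
  -- the ring `B_f[t]`
  let K : Subalgebra B C' := Algebra.adjoin B {ρ, v}
  let tK : K := ⟨ρ, Algebra.subset_adjoin (by simp)⟩
  let vK : K := ⟨v, Algebra.subset_adjoin (by simp)⟩
  let M : Subalgebra B C' := Algebra.adjoin B {ρ}
  have hM : ∀ x ∈ M, ∃ b : Fin N → B, x = ∑ j, algebraMap B C' (b j) * ρ ^ (j : ℕ) := by
    intro x hx
    rw [show M = (Polynomial.aeval ρ).range from Algebra.adjoin_singleton_eq_range_aeval B ρ] at hx
    obtain ⟨p, rfl⟩ := hx
    haveI : Nontrivial B := inferInstance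
    have hdeg : (p %ₘ (X ^ N - C φ)).natDegree < N := by
      have := natDegree_modByMonic_lt p (monic hN φ) (fun h => by
        have := congrArg natDegree h
        rw [natDegree_X_pow_sub_C, natDegree_one] at this
        omega)
      rwa [natDegree_X_pow_sub_C] at this
    refine ⟨fun j => (p %ₘ (X ^ N - C φ)).coeff j, ?_⟩
    have hz : aeval ρ (X ^ N - C φ : B[X]) = 0 := by simp [hρN]
    rw [Fin.sum_univ_eq_sum_range (fun j => algebraMap B C' ((p %ₘ (X ^ N - C φ)).coeff j) * ρ ^ j)]
    change aeval ρ p = _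
    conv_lhs => rw [← modByMonic_add_div p (X ^ N - C φ), map_add, map_mul, hz, zero_mul, add_zero,
      as_sum_range_C_mul_X_pow' _ hdeg]
    simp [map_sum]
  have hKspan : ∀ x ∈ K, ∃ m : ℕ, algebraMap B C' (f ^ m) * x ∈ M := by
    intro x hx
    induction hx using Algebra.adjoin_induction with
    | mem y hy =>
      rcases hy with rfl | rfl
      · exact ⟨0, by rw [pow_zero, map_one, one_mul]; exact Algebra.subset_adjoin rfl⟩
      · exact ⟨1, by rw [pow_one, hv]; exact one_mem _⟩
    | algebraMap b => exact ⟨0, by simp⟩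
    | add x y _ _ hx hy =>
      obtain ⟨m, hm⟩ := hx
      obtain ⟨n, hn⟩ := hy
      refine ⟨m + n, ?_⟩
      have h3 := add_mem (M.mul_mem (M.algebraMap_mem (f ^ n)) hm) (M.mul_mem (M.algebraMap_mem (f ^ m)) hn)
      convert h3 using 1
      rw [map_pow, map_pow, map_pow, pow_add]; ring
    | mul x y _ _ hx hy =>
      obtain ⟨m, hm⟩ := hx
      obtain ⟨n, hn⟩ := hy
      refine ⟨m + n, ?_⟩
      have h3 := M.mul_mem hm hn
      convert h3 using 1
      rw [map_pow, map_pow, map_pow, pow_add]; ring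
  have hliC : ∀ c : Fin N → B, ∑ j, algebraMap B C' (c j) * ρ ^ (j : ℕ) = 0 → c = 0 := by
    intro c hc
    have := coord_eq_zero hN (algebraMap B B' φ) (fun j => algebraMap B B' (c j))
      ((Finset.sum_congr rfl fun j _ => by rw [IsScalarTower.algebraMap_apply B B' C']).symm.trans hc)
    funext j
    exact hinjB ((congrFun this j).trans (map_zero _).symm)
  let D : Datum B K :=
    { f := f, u := u₀, N := N, α := α, t := tK, v := vK, hN := hN, hf := hf0
      hv := Subtype.ext hv
      ht := Subtype.ext (show ρ ^ N = algebraMap B C' ((u₀ : B) * f ^ α) by rw [← hφ, hρN])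
      hred := hred
      hspan := fun x => by
        obtain ⟨m, hm⟩ := hKspan x.1 x.2
        obtain ⟨b, hb⟩ := hM _ hm
        refine ⟨m, b, Subtype.ext ?_⟩
        simpa using hb
      hli := Fintype.linearIndependent_iff.mpr fun c hc => congrFun (hliC c (by
        have := congrArg Subtype.val hc
        simpa [Algebra.smul_def, tK] using this)) }
  have hσ : ∀ l : ℕ, ∃ σ : K →ₐ[B] K, σ D.t = algebraMap B K (ζ ^ l) * D.t := by
    intro l
    obtain ⟨σ₀, hσ₀⟩ := exists_twist (B' := B') φ hζ.pow_eq_one l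
    let τ : C' →ₐ[B] C' := σ₀.restrictScalars B
    have hτv : τ v = v := by
      refine hfu.mul_left_cancel ?_
      rw [hv]
      conv_lhs => rw [← τ.commutes f, ← map_mul, hv, map_one]
    have hτρ : τ ρ = algebraMap B C' (ζ ^ l) * ρ := hσ₀
    refine ⟨(τ.comp K.val).codRestrict K fun x => ?_, Subtype.ext hτρ⟩
    have : τ x.1 ∈ Algebra.adjoin B (τ '' {ρ, v}) := by
      rw [← AlgHom.map_adjoin]
      exact ⟨x.1, x.2, rfl⟩
    refine Algebra.adjoin_le ?_ this
    rintro _ ⟨y, hy, rfl⟩
    rcases hy with rfl | rfl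
    · rw [hτρ]; exact K.mul_mem (K.algebraMap_mem _) tK.2
    · rw [hτv]; exact vK.2
  -- the image of `A`
  have hAK : ∀ a, ι a ∈ K := by
    intro a
    obtain ⟨b, hb⟩ := exists_coord_of_isIntegral φ hg hN hζ hNu (ι a) ((IsIntegral.of_finite B a).map ι)
    have h1 : algebraMap B C' φ * ι a ∈ K := by
      rw [hb]
      exact K.sum_mem fun j _ => K.mul_mem (K.algebraMap_mem _) (K.pow_mem tK.2 _)
    have h2 := K.mul_mem (K.mul_mem (K.algebraMap_mem ((u₀⁻¹ : Bˣ) : B)) (K.pow_mem vK.2 α)) h1
    convert h2 using 1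
    have h3 : algebraMap B C' ((u₀⁻¹ : Bˣ) : B) * v ^ α * algebraMap B C' φ = 1 := by
      rw [show algebraMap B C' φ = algebraMap B C' (u₀ : B) * algebraMap B C' f ^ α by
        rw [← map_pow, ← map_mul]; exact congrArg _ hφ]
      calc algebraMap B C' ((u₀⁻¹ : Bˣ) : B) * v ^ α * (algebraMap B C' (u₀ : B) * algebraMap B C' f ^ α)
          = algebraMap B C' (((u₀⁻¹ : Bˣ) : B) * (u₀ : B)) * (algebraMap B C' f * v) ^ α := by
            rw [map_mul, mul_pow]; ring
        _ = 1 := by rw [hv, one_pow, mul_one, Units.inv_mul, map_one]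
    rw [← mul_assoc, h3, one_mul]
  let ι' : A →ₐ[B] K := ι.codRestrict K hAK
  have hι' : Function.Injective ι' := fun a b h => hι (congrArg Subtype.val h)
  let IC : Subalgebra B K := integralClosure B K
  have hmem : ∀ x, x ∈ IC ↔ IsIntegral B x := fun x => Iff.rfl
  have hsp : ∀ x, IsIntegral B x → x ∈ Submodule.span B (Set.range D.e) :=
    fun x hx => D.mem_span_of_isIntegral hζ hNu hσ x hx
  have hgen : IC = Algebra.adjoin B (Set.range D.e) := by
    refine le_antisymm (fun x hx => Algebra.span_le_adjoin B _ (hsp x hx)) (Algebra.adjoin_le ?_)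
    rintro _ ⟨j, rfl⟩
    exact D.isIntegral_e j
  have hfreg : ∀ x : A, ∀ m : ℕ, algebraMap B A (f ^ m) * x = 0 → x = 0 := by
    intro x m hx
    refine hι ((hfu.pow m).mul_left_cancel ?_)
    have := congrArg ι hx
    rw [map_mul, AlgHom.commutes, map_pow, map_zero] at this
    rw [this, map_zero, mul_zero]
  have he : ∀ j : Fin N, ∃ a : A, ι' a = D.e j := by
    intro j
    set q := (j : ℕ) * α / N with hq
    set r := (j : ℕ) * α % N with hr
    have hqr : N * q + r = (j : ℕ) * α := Nat.div_add_mod _ _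
    obtain ⟨a, ha⟩ : algebraMap B A (f ^ q) ∣ t ^ (j : ℕ) := by
      refine dvd_of_pow_dvd_pow hnorm _ _ (fun x hx => hfreg x q hx) hN
        ⟨algebraMap B A ((u₀ : B) ^ (j : ℕ) * f ^ r), hι ?_⟩
      have h4 : (ρ ^ (j : ℕ)) ^ N = algebraMap B C' φ ^ (j : ℕ) := by
        rw [← pow_mul, mul_comm (j : ℕ), pow_mul, hρN]
      rw [map_pow, map_pow, hιt, h4, ← map_pow, ← map_pow, ← map_mul, AlgHom.commutes, hφ]
      congr 1
      rw [mul_pow, ← pow_mul, mul_comm α, ← hqr, pow_add, pow_mul]
      ring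
    refine ⟨a, Subtype.ext ?_⟩
    have h5 := congrArg ι ha
    rw [map_pow, hιt, map_mul, AlgHom.commutes] at h5
    change ι a = ρ ^ (j : ℕ) * v ^ q
    rw [h5, map_pow]
    calc ι a = (algebraMap B C' f * v) ^ q * ι a := by rw [hv, one_pow, one_mul]
      _ = _ := by ring
  choose ea hea using he
  have hrange : ι'.range = IC := by
    refine le_antisymm ?_ ?_
    · rintro _ ⟨a, rfl⟩
      exact (hmem _).mpr ((IsIntegral.of_finite B a).map ι')
    · rw [hgen]
      exact Algebra.adjoin_le (by rintro _ ⟨j, rfl⟩; exact ⟨ea j, hea j⟩)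
  let eA : A ≃ₐ[B] IC := (AlgEquiv.ofInjective ι' hι').trans (Subalgebra.equivOfEq _ _ hrange)
  have hspanA : Submodule.span B (Set.range ea) = ⊤ := by
    apply Submodule.map_injective_of_injective (f := ι'.toLinearMap) hι'
    rw [Submodule.map_span, ← Set.range_comp, Submodule.map_top]
    refine le_antisymm (Submodule.span_le.mpr ?_) ?_
    · rintro _ ⟨j, rfl⟩; exact ⟨ea j, rfl⟩
    · rintro _ ⟨a, rfl⟩
      have := hsp (ι' a) ((IsIntegral.of_finite B a).map ι')
      rwa [show (⇑ι'.toLinearMap ∘ ea) = D.e from funext hea]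
  have hliA : LinearIndependent B ea := LinearIndependent.of_comp ι'.toLinearMap (by
    rw [show (⇑ι'.toLinearMap ∘ ea) = D.e from funext hea]; exact D.li_e)
  haveI hfree : Module.Free B A := Module.Free.of_basis (Module.Basis.mk hliA hspanA.ge)
  haveI : Module.Flat B A := inferInstance
  obtain ⟨d, n, a, hd, hcop, hNg, hαg⟩ := Nat.exists_coprime' (m := D.N) (n := D.α)
    (Nat.gcd_pos_of_pos_left D.α D.hN)
  have hn : 0 < n := Nat.pos_of_ne_zero fun h => by rw [h, zero_mul] at hNg; exact D.hN.ne' hNg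
  obtain ⟨i, q, hiq⟩ := Regular.exists_inv (a + n) n hn (by omega)
    (by simpa [Nat.coprime_add_self_left] using hcop.symm)
  let ω₀ : K := D.t ^ n * D.v ^ a
  let s₀ : K := D.t ^ i * algebraMap B K D.f ^ i * D.v ^ q
  have hω : ω₀ ^ d = algebraMap B K (D.u : B) := by
    rw [Main.u_eq D, hNg, hαg]; ring
  have hs : s₀ ^ n = ω₀ ^ i * algebraMap B K D.f := by
    have h : i * (a + n) = 1 + n * q := hiq
    calc s₀ ^ n = D.t ^ (i * n) * algebraMap B K D.f ^ (i * n) * D.v ^ (q * n) := by ring
      _ = D.t ^ (i * n) * algebraMap B K D.f ^ 1 * D.v ^ (a * i) := by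
          refine Main.mono_eq D rfl ?_
          rw [mul_add] at h
          rw [mul_comm a i, mul_comm q n]
          omega
      _ = _ := by ring
  have hωint : IsIntegral B ω₀ := IsIntegral.of_pow hd (hω ▸ isIntegral_algebraMap)
  have hωi : IsIntegral B (ω₀ ^ i * algebraMap B K D.f) :=
    ((integralClosure B K).pow_mem hωint i).mul isIntegral_algebraMap
  have hsint : IsIntegral B s₀ := IsIntegral.of_pow hn (hs ▸ hωi)
  have hex : ∀ x : K, IsIntegral B x → ∃ y : A, ι' y = x := by
    intro x hx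
    have h1 : x ∈ ι'.range := hrange ▸ (hmem x).mpr hx
    exact h1
  obtain ⟨ω, hω'⟩ := hex ω₀ hωint
  obtain ⟨σ, hσ'⟩ := hex s₀ hsint
  refine ⟨σ, ω, d, n, i, ⟨n, by rw [mul_comm]; exact hNg⟩, hn, ?_, hι' ?_, hι' ?_, ?_, inferInstance⟩
  · show n = D.N / Nat.gcd D.N D.α
    rw [hNg, hαg, Nat.gcd_mul_right, hcop, one_mul, Nat.mul_div_cancel _ hd]
  · rw [map_pow, hω', AlgHom.commutes]; exact hω
  · rw [map_pow, map_mul, map_pow, hσ', hω', AlgHom.commutes]; exact hs
  · rw [eq_top_iff]
    intro y _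
    have hy : y ∈ Submodule.span B (Set.range ea) := hspanA ▸ Submodule.mem_top
    induction hy using Submodule.span_induction with
    | mem z hz =>
      obtain ⟨j, rfl⟩ := hz
      set m := (j : ℕ) * D.α / D.N with hm
      have hmn : m = (j : ℕ) * a / n := by
        calc m = (j : ℕ) * (a * d) / (n * d) := by rw [← hαg, ← hNg]
          _ = _ := by rw [← mul_assoc, Nat.mul_div_mul_right _ _ hd]
      have hdm := Nat.div_add_mod ((j : ℕ) * a) n
      rw [← hmn] at hdm
      set r := (j : ℕ) * a % n with hr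
      set M' := (j : ℕ) * q with hM'
      obtain ⟨g'', hg''⟩ : ∃ g'', d = g'' + 1 := ⟨d - 1, by omega⟩
      set x := i * j + i * m + g'' * M' with hx
      have key : ι' (algebraMap B A ((D.u : B) ^ M') * ea j) = ι' (σ ^ r * ω ^ x) := by
        rw [map_mul, map_mul, AlgHom.commutes, map_pow ι' σ, map_pow ι' ω, hσ', hω', hea]
        rw [map_pow, Main.u_eq D, Datum.e, ← hm]
        calc (D.t ^ D.N * D.v ^ D.α) ^ M' * (D.t ^ (j : ℕ) * D.v ^ m)
            = D.t ^ (D.N * M' + j) * algebraMap B K D.f ^ 0 * D.v ^ (D.α * M' + m) := by ring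
          _ = D.t ^ (i * r + n * x) * algebraMap B K D.f ^ (i * r) * D.v ^ (q * r + a * x) := by
              have hz1 : (i : ℤ) * (a + n) = 1 + n * q := by exact_mod_cast hiq
              have hz2 : (n : ℤ) * m + r = j * a := by exact_mod_cast hdm
              refine Main.mono_eq D ?_ ?_
              · have : ((D.N * M' + j : ℕ) : ℤ) = ((i * r + n * x : ℕ) : ℤ) := by
                  rw [show D.N * M' = n * d * M' by rw [← hNg], hg'', hx, hM']; push_cast
                  linear_combination (-(j : ℤ)) * hz1 - (i : ℤ) * hz2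
                exact_mod_cast this
              · refine Nat.eq_of_mul_eq_mul_left hn ?_
                have : ((n * (0 + (q * r + a * x)) : ℕ) : ℤ) = ((n * (i * r + (D.α * M' + m)) : ℕ) : ℤ) := by
                  rw [hαg, hg'', hx, hM']; push_cast
                  linear_combination ((a : ℤ) * j - r) * hz1 + ((a : ℤ) * i - 1) * hz2
                exact_mod_cast this
          _ = _ := by ring
      have h2 : ea j = algebraMap B A (((D.u ^ M')⁻¹ : Bˣ) : B) * (σ ^ r * ω ^ x) := by
        rw [← hι' key, ← mul_assoc, ← map_mul, ← Units.val_pow_eq_pow_val, Units.inv_mul, map_one,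
          one_mul]
      rw [h2]
      exact mul_mem (Subalgebra.algebraMap_mem _ _)
        (mul_mem (pow_mem (Algebra.subset_adjoin (by simp)) _) (pow_mem (Algebra.subset_adjoin (by simp)) _))
    | zero => exact zero_mem _
    | add p q _ _ hp hq => exact add_mem (hp trivial) (hq trivial)
    | smul r p _ hp => exact Subalgebra.smul_mem _ (hp trivial) r

end Groth.Agent.H12.CycNCD
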