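import Groth.Agent.Lib.Unram.EtaleOverAffineSpace
import Mathlib.RingTheory.RingHom.Etale

/-!
# Etale coordinates on a cyclic cover

`A = B[σ, ω]` with `ω^g = u` a unit and `σ^m = ω^i x_e`, where `x` are etale coordinates on `B`:
away from a function congruent to `ω^i` modulo `x_e`, replacing `x_e` by `σ` gives etale coordinates
on `A`.
-/

set_option autoImplicit false
set_option linter.style.haveILetI false
universe u

open IsLocalRing
open scoped TensorProduct

namespace Groth.Agent.H12.CycNCD

variable {k : Type u} [Field k] {n : ℕ} {B : Type u} [CommRing B] [Algebra k B]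
  {A : Type u} [CommRing A] [Algebra k A] [Algebra B A] [IsScalarTower k B A]
  [Module.Finite B A] [Module.Flat B A]

/-- Finite type over `k`, dimension and spanning differentials of an étale algebra over affine space. -/
theorem etale_data (x : Fin n → B)
    (hx : (MvPolynomial.aeval x : MvPolynomial (Fin n) k →ₐ[k] B).toRingHom.Etale) :
    Algebra.FiniteType k B ∧
      (∀ (m : Ideal B) [m.IsMaximal], ringKrullDim (Localization.AtPrime m) = n) ∧
      Submodule.span B (Set.range fun i => KaehlerDifferential.D k B (x i)) = ⊤ := by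
  letI : Algebra (MvPolynomial (Fin n) k) B := (MvPolynomial.aeval x).toRingHom.toAlgebra
  haveI : IsScalarTower k (MvPolynomial (Fin n) k) B :=
    IsScalarTower.of_algebraMap_eq fun c => ((MvPolynomial.aeval x).commutes c).symm
  haveI het : Algebra.Etale (MvPolynomial (Fin n) k) B := hx
  haveI : Algebra.FiniteType k B := Algebra.FiniteType.trans (R := k) (S := MvPolynomial (Fin n) k)
    inferInstance inferInstance
  obtain ⟨h1, h2⟩ := (Lib.Unram.EtaleOverAffineSpace.etale_iff k n B).mp het
  refine ⟨inferInstance, h1, ?_⟩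
  rw [← h2]
  congr 2
  funext l
  exact congrArg (KaehlerDifferential.D k B) (MvPolynomial.aeval_X x l).symm

omit [IsScalarTower k B A] in
/-- The localisation at a maximal ideal of an etale chart on the base controls the dimension upstairs. -/
theorem ringKrullDim_away [Algebra.FiniteType k B] (hfA : Algebra.FiniteType k A)
    (hdim : ∀ (m : Ideal B) [m.IsMaximal], ringKrullDim (Localization.AtPrime m) = n)
    (δ : A) (C : Type u) [CommRing C] [Algebra A C] [IsLocalization.Away δ C] [Algebra k C]
    [IsScalarTower k A C] (M : Ideal C) [M.IsMaximal] :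
    ringKrullDim (Localization.AtPrime M) = n := by
  haveI := hfA
  haveI : IsNoetherianRing A := Algebra.FiniteType.isNoetherianRing k A
  haveI : IsNoetherianRing B := Algebra.FiniteType.isNoetherianRing k B
  haveI : IsJacobsonRing A := isJacobsonRing_of_finiteType (A := k)
  let Q : Ideal A := M.under A
  haveI : Q.IsMaximal := ((IsLocalization.isMaximal_iff_isMaximal_disjoint (S := C) δ M).mp ‹_›).1
  let P : Ideal B := Q.under B
  haveI : P.IsMaximal := Ideal.IsMaximal.under B Q
  haveI : Q.LiesOver P := ⟨rfl⟩
  have hP : (P.height : WithBot ℕ∞) = n := by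
    rw [← hdim P, IsLocalization.AtPrime.ringKrullDim_eq_height P]
  have hQ : Q.height = P.height := by
    rw [Ideal.height_eq_height_add_of_liesOver_of_hasGoingDown P Q]
    set F := A ⧸ Ideal.map (algebraMap B A) P
    haveI : Nontrivial F := Ideal.Quotient.nontrivial_iff.mpr fun h => by
      have : Ideal.map (algebraMap B A) P ≤ Q := Ideal.map_le_iff_le_comap.mpr le_rfl
      rw [h, top_le_iff] at this
      exact Ideal.IsMaximal.ne_top ‹_› this
    letI : Field (B ⧸ P) := Ideal.Quotient.field P
    haveI : Module.Finite B F := Module.Finite.quotient B _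
    haveI : Module.Finite (B ⧸ P) F := Module.Finite.of_restrictScalars_finite B (B ⧸ P) F
    haveI : IsArtinianRing F := IsArtinianRing.of_finite (B ⧸ P) F
    haveI : (Q.map (Ideal.Quotient.mk (Ideal.map (algebraMap B A) P))).IsPrime :=
      Ideal.map_isPrime_of_surjective Ideal.Quotient.mk_surjective
        (by rw [Ideal.mk_ker]; exact Ideal.map_le_iff_le_comap.mpr le_rfl)
    have h0 : (Q.map (Ideal.Quotient.mk (Ideal.map (algebraMap B A) P))).height = 0 := by
      have h := Ideal.height_le_ringKrullDim_of_ne_top
        (Ideal.IsPrime.ne_top ‹(Q.map (Ideal.Quotient.mk (Ideal.map (algebraMap B A) P))).IsPrime›)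
      haveI := (isArtinianRing_iff_isNoetherianRing_krullDimLE_zero.mp ‹IsArtinianRing F›).2
      replace h := h.trans (Ring.krullDimLE_iff.mp ‹Ring.KrullDimLE 0 F›)
      exact le_antisymm (by exact_mod_cast h) bot_le
    rw [h0, add_zero]
  rw [IsLocalization.AtPrime.ringKrullDim_eq_height M, ← IsLocalization.height_under (Submonoid.powers δ) M]
  change (Q.height : WithBot ℕ∞) = n
  rw [hQ, hP]

/-- **Twisted coordinates.** -/
theorem exists_etale_away (x : Fin n → B)
    (hx : (MvPolynomial.aeval x : MvPolynomial (Fin n) k →ₐ[k] B).toRingHom.Etale)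
    (e : Fin n) (σ ω : A) (u : Bˣ) (g m i : ℕ) (hg : (g : k) ≠ 0)
    (hω : ω ^ g = algebraMap B A (u : B)) (hσ : σ ^ m = ω ^ i * algebraMap B A (x e))
    (hgen : Algebra.adjoin B ({σ, ω} : Set A) = ⊤) :
    ∃ δ : A, (∃ c : A, δ = ω ^ i + c * algebraMap B A (x e)) ∧
      ∀ (C : Type u) [CommRing C] [Algebra A C] [IsLocalization.Away δ C] [Algebra k C]
        [IsScalarTower k A C],
        (MvPolynomial.aeval fun l => algebraMap A C (Function.update (fun l => algebraMap B A (x l)) e σ l)
          : MvPolynomial (Fin n) k →ₐ[k] C).toRingHom.Etale := by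
  obtain ⟨hfB, hdim, hspan⟩ := etale_data x hx
  have hfA : Algebra.FiniteType k A :=
    Algebra.FiniteType.trans (R := k) (S := B) inferInstance inferInstance
  let d := KaehlerDifferential.D k A
  let v : Fin n → A := Function.update (fun l => algebraMap B A (x l)) e σ
  let M : Submodule A Ω[A⁄k] := Submodule.span A (Set.range fun l => d (v l))
  let a : A := algebraMap B A (x e)
  let M' : Submodule A Ω[A⁄k] := M ⊔ Submodule.span A {d a}
  have hv : ∀ l, d (algebraMap B A (x l)) ∈ M' := by
    intro l
    by_cases h : l = e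
    · subst h; exact Submodule.mem_sup_right (Submodule.subset_span rfl)
    · exact Submodule.mem_sup_left (Submodule.subset_span
        ⟨l, by simp [v, h]⟩)
  have hdB : ∀ b : B, d (algebraMap B A b) ∈ M' := by
    intro b
    have hb : KaehlerDifferential.D k B b ∈
        Submodule.span B (Set.range fun i => KaehlerDifferential.D k B (x i)) := by
      rw [hspan]; trivial
    have key : ∀ z ∈ Submodule.span B (Set.range fun i => KaehlerDifferential.D k B (x i)),
        KaehlerDifferential.map k k B A z ∈ M' := by
      intro z hz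
      induction hz using Submodule.span_induction with
      | mem w hw => obtain ⟨l, rfl⟩ := hw; rw [KaehlerDifferential.map_D]; exact hv l
      | zero => rw [map_zero]; exact zero_mem _
      | add p q _ _ hp hq => rw [map_add]; exact add_mem hp hq
      | smul r p _ hp => rw [map_smul, ← algebraMap_smul A r]; exact M'.smul_mem _ hp
    have := key _ hb
    rwa [KaehlerDifferential.map_D] at this
  have hgA : IsUnit (g : A) := by
    rw [← map_natCast (algebraMap k A)]; exact (isUnit_iff_ne_zero.mpr hg).map _
  have hg0 : g ≠ 0 := fun h => hg (by rw [h]; exact Nat.cast_zero)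
  have hωu : IsUnit ω := (isUnit_pow_iff hg0).mp (hω ▸ u.isUnit.map _)
  have hdω : d ω ∈ M' := by
    have h1 : d (ω ^ g) ∈ M' := by rw [hω]; exact hdB _
    rw [Derivation.leibniz_pow, ← Nat.cast_smul_eq_nsmul A, smul_smul] at h1
    exact (Submodule.smul_mem_iff_of_isUnit M' (hgA.mul (hωu.pow _))).mp h1
  obtain ⟨m₁, hm₁, m₂, hm₂, hsum⟩ := Submodule.mem_sup.mp hdω
  obtain ⟨c, rfl⟩ := Submodule.mem_span_singleton.mp hm₂
  let c' : A := (i : A) * ω ^ (i - 1) * c
  refine ⟨ω ^ i + c' * a, ⟨c', rfl⟩, ?_⟩
  have hσM : d σ ∈ M := Submodule.subset_span ⟨e, by simp [v]⟩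
  have hδ : (ω ^ i + c' * a) • d a ∈ M := by
    have h2 : d (σ ^ m) ∈ M := by
      rw [Derivation.leibniz_pow, ← Nat.cast_smul_eq_nsmul A, smul_smul]
      exact M.smul_mem _ hσM
    rw [hσ, Derivation.leibniz, Derivation.leibniz_pow, ← Nat.cast_smul_eq_nsmul A, smul_smul,
      smul_smul, ← hsum, smul_add, smul_smul] at h2
    have h3 : a * (i : A) * ω ^ (i - 1) * c = c' * a := by simp only [c']; ring
    rw [h3] at h2
    have h4 := M.sub_mem h2 (M.smul_mem (a * (i : A) * ω ^ (i - 1)) hm₁)
    convert h4 using 1
    rw [add_smul]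
    abel
  intro C _ _ _ _ _
  let dC := KaehlerDifferential.D k C
  let N : Submodule C Ω[C⁄k] := Submodule.span C (Set.range fun l => dC (algebraMap A C (v l)))
  have hMN : ∀ z ∈ M, KaehlerDifferential.map k k A C z ∈ N := by
    intro z hz
    induction hz using Submodule.span_induction with
    | mem w hw =>
      obtain ⟨l, rfl⟩ := hw
      rw [KaehlerDifferential.map_D]
      exact Submodule.subset_span ⟨l, rfl⟩
    | zero => rw [map_zero]; exact zero_mem _
    | add p q _ _ hp hq => rw [map_add]; exact add_mem hp hq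
    | smul r p _ hp => rw [map_smul, ← algebraMap_smul C r]; exact N.smul_mem _ hp
  have hda : dC (algebraMap A C a) ∈ N := by
    have h5 := hMN _ hδ
    rw [map_smul, KaehlerDifferential.map_D, ← algebraMap_smul C (ω ^ i + c' * a)] at h5
    exact (Submodule.smul_mem_iff_of_isUnit N
      (IsLocalization.Away.algebraMap_isUnit (S := C) (ω ^ i + c' * a))).mp h5
  have hM'N : ∀ z ∈ M', KaehlerDifferential.map k k A C z ∈ N := by
    intro z hz
    obtain ⟨p, hp, q, hq, rfl⟩ := Submodule.mem_sup.mp hz
    obtain ⟨r, rfl⟩ := Submodule.mem_span_singleton.mp hq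
    rw [map_add, map_smul, KaehlerDifferential.map_D, ← algebraMap_smul C r]
    exact add_mem (hMN _ hp) (N.smul_mem _ hda)
  have hall : ∀ y : A, d y ∈ M' := by
    intro y
    have hy : y ∈ Algebra.adjoin B ({σ, ω} : Set A) := hgen ▸ Algebra.mem_top
    induction hy using Algebra.adjoin_induction with
    | mem w hw =>
      rcases hw with rfl | rfl
      · exact Submodule.mem_sup_left hσM
      · exact hdω
    | algebraMap b => exact hdB b
    | add p q _ _ hp hq => rw [map_add]; exact add_mem hp hq
    | mul p q _ _ hp hq =>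
      rw [Derivation.leibniz]; exact add_mem (M'.smul_mem _ hq) (M'.smul_mem _ hp)
  have hN : N = ⊤ := by
    rw [eq_top_iff, ← KaehlerDifferential.span_range_map_derivation_of_isLocalization k A C
      (Submonoid.powers (ω ^ i + c' * a))]
    refine Submodule.span_le.mpr ?_
    rintro _ ⟨y, rfl⟩
    exact hM'N _ (hall y)
  let f := (MvPolynomial.aeval fun l => algebraMap A C (v l) : MvPolynomial (Fin n) k →ₐ[k] C)
  letI : Algebra (MvPolynomial (Fin n) k) C := f.toRingHom.toAlgebra
  haveI : IsScalarTower k (MvPolynomial (Fin n) k) C :=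
    IsScalarTower.of_algebraMap_eq fun r => (f.commutes r).symm
  haveI : Algebra.FiniteType A C := IsLocalization.finiteType_of_monoid_fg (Submonoid.powers (ω ^ i + c' * a)) C
  haveI : Algebra.FiniteType k C := Algebra.FiniteType.trans (R := k) (S := A) hfA inferInstance
  refine (Lib.Unram.EtaleOverAffineSpace.etale_iff k n C).mpr ⟨fun P _ => ?_, ?_⟩
  · exact ringKrullDim_away (B := B) hfA hdim (ω ^ i + c' * a) C P
  · rw [← hN]
    congr 2
    funext l
    exact congrArg _ (MvPolynomial.aeval_X _ l)

end Groth.Agent.H12.CycNCD
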