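import Groth.Agent.H95.CycCover.Glue
import Groth.Agent.H12.CycNCD.Gen
import Groth.Agent.H12.CycNCD.Twist

/-!
# The reduced preimages of the components form a normal crossing divisor on the cyclic cover
-/

set_option autoImplicit false
set_option linter.style.haveILetI false
universe u
open CategoryTheory AlgebraicGeometry TopologicalSpace Opposite
open Groth.Agent.Lib.TensorMod.Gen Groth.Agent.Lib.TensorMod.Dual
open Groth.Agent.H95 Groth.Agent.H95.CycCover

namespace Groth.Agent.H12.CycNCD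

variable {k : Type u} [Field k] {X Y : Scheme.{u}} [IsIntegral X]
  (f : X ⟶ Spec (CommRingCat.of k)) [Smooth f] {L : X.Modules} {N : ℕ}
  {s : Coh.structureModule X ⟶ CohB1.tensorPow L N} {π : Y ⟶ X} (R : CycCov.Root L N s π)

set_option maxHeartbeats 1600000 in
include f in
/-- The cover over an affine open with a frame where `s = u·a^β e^N` and `a` generates a radical ideal:
it is generated by `ω` and `σ`. The set-up is that of `H95.CycCover.Local.main`. -/
theorem local_generators [IsAlgClosed k] (hN : 0 < N) (hNk : (N : k) ≠ 0) (hR : CycCov.IsCover R)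
    (U : X.affineOpens) [Nonempty U.1] {e : Γ(L, U.1)} (he : IsGen L U.1 e)
    (a : Γ(X, U.1)) (u₀ : Γ(X, U.1)ˣ) (β : ℕ)
    (hφ : SecTwist.val s U.1 = ((u₀ : Γ(X, U.1)) * a ^ β) • CycCov.lpow L U.1 e N) (ha : a ≠ 0)
    (hrad : (Ideal.span ({a} : Set Γ(X, U.1))).IsRadical) :
    letI : Algebra Γ(X, U.1) Γ(Y, π ⁻¹ᵁ U.1) := (π.app U.1).hom.toAlgebra
    ∃ (σ ω : Γ(Y, π ⁻¹ᵁ U.1)) (d m i : ℕ), d ∣ N ∧ 0 < m ∧ m = N / Nat.gcd N β ∧
      ω ^ d = algebraMap Γ(X, U.1) Γ(Y, π ⁻¹ᵁ U.1) (u₀ : Γ(X, U.1)) ∧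
      σ ^ m = ω ^ i * algebraMap Γ(X, U.1) Γ(Y, π ⁻¹ᵁ U.1) a ∧
      Algebra.adjoin Γ(X, U.1) ({σ, ω} : Set Γ(Y, π ⁻¹ᵁ U.1)) = ⊤ ∧
      Module.Flat Γ(X, U.1) Γ(Y, π ⁻¹ᵁ U.1) := by
  classical
  haveI := hR.1
  obtain ⟨W₀, hW₀, hW₀', hchart⟩ := hR.2.2
  haveI : IsReduced Y := by
    haveI : ∀ y : Y, _root_.IsReduced (Y.presheaf.stalk y) := fun y =>
      haveI := (hR.2.1 y).1
      inferInstance
    exact isReduced_of_isReduced_stalk Y
  let B := Γ(X, U.1)
  let A := Γ(Y, π ⁻¹ᵁ U.1)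
  letI : Algebra B A := (π.app U.1).hom.toAlgebra
  haveI : Module.Finite B A := π.finite_app U.1 U.2
  haveI : IsNoetherianRing B := Base.isNoetherianRing f U
  haveI : IsDomain B := inferInstanceAs (IsDomain Γ(X, U.1))
  haveI : IsIntegrallyClosed B := Base.isIntegrallyClosed f U
  let κ : k →+* B :=
    ((X.presheaf.map (homOfLE (le_top : U.1 ≤ ⊤)).op).hom.comp f.appTop.hom).comp
      (Scheme.ΓSpecIso (CommRingCat.of k)).inv.hom
  have hNu : IsUnit (N : B) := by
    rw [← map_natCast κ]; exact (isUnit_iff_ne_zero.mpr hNk).map κ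
  haveI : NeZero (N : k) := ⟨hNk⟩
  obtain ⟨ζ₀, hζ₀⟩ := HasEnoughRootsOfUnity.exists_primitiveRoot k N
  have hζ : IsPrimitiveRoot (κ ζ₀) N := hζ₀.map_of_injective κ.injective
  set φ : B := (u₀ : B) * a ^ β with hφdef
  -- a basic open inside the good locus
  obtain ⟨x, hxU, hxW⟩ : ∃ x, x ∈ (U.1 : Set X) ∧ x ∈ (W₀ : Set X) := by
    obtain ⟨⟨p, hp⟩⟩ := ‹Nonempty U.1›
    obtain ⟨x, h1, h2⟩ := hW₀.inter_open_nonempty _ U.1.2 ⟨p, hp⟩
    exact ⟨x, h1, h2⟩
  obtain ⟨g₀, hg₀W, hxg₀⟩ := U.2.exists_basicOpen_le (V := U.1 ⊓ W₀) ⟨x, hxU, hxW⟩ hxU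
  have hne : ∀ b : B, b ≠ 0 → X.basicOpen b ≠ ⊥ := fun b hb h => hb (eq_zero_of_basicOpen_eq_bot b h)
  have hg₀ : g₀ ≠ 0 := by
    rintro rfl
    rw [Scheme.basicOpen_zero] at hxg₀
    exact hxg₀
  set g := a * g₀ with hgdef
  have hg : g ≠ 0 := mul_ne_zero ha hg₀
  let V : X.affineOpens := X.affineBasicOpen g
  have hVU : V.1 ≤ U.1 := X.basicOpen_le g
  have hVW : V.1 ≤ W₀ := by
    show X.basicOpen g ≤ W₀
    rw [hgdef, Scheme.basicOpen_mul]
    exact inf_le_right.trans (hg₀W.trans inf_le_right)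
  let B' := Γ(X, V.1)
  letI : Algebra B B' := (X.presheaf.map (homOfLE hVU).op).hom.toAlgebra
  haveI : IsLocalization.Away g B' := U.2.isLocalization_basicOpen g
  let φ' : B' := algebraMap B B' φ
  have heV : CycCov.IsGen L V.1 (rs L hVU e) := Frames.cycIsGen (he.res hVU)
  have hφV : SecTwist.val s V.1 = φ' • CycCov.lpow L V.1 (rs L hVU e) N :=
    Frames.phi_res s hVU e φ hφ
  have hbij := hchart V hVW (rs L hVU e) heV φ' hφV
  let ch := CycCov.chart R V (rs L hVU e) heV φ' hφV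
  let chE := RingEquiv.ofBijective ch hbij
  let res : A →+* Γ(Y, π ⁻¹ᵁ V.1) := (Y.presheaf.map (homOfLE (π.preimage_mono hVU)).op).hom
  have hnat : ∀ b : B, res ((π.app U.1).hom b) = (π.app V.1).hom (algebraMap B B' b) := fun b =>
    (congr($(π.naturality (homOfLE hVU).op) b)).symm
  let ι : A →ₐ[B] AdjoinRoot (Polynomial.X ^ N - Polynomial.C φ' : Polynomial B') :=
    { toRingHom := chE.symm.toRingHom.comp res
      commutes' := fun b => by
        show chE.symm (res ((π.app U.1).hom b)) = _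
        rw [hnat, RingEquiv.symm_apply_eq]
        show (π.app V.1).hom (algebraMap B B' b) = ch (algebraMap B _ b)
        rw [IsScalarTower.algebraMap_apply B B' _ b]
        exact (AdjoinRoot.lift_of _).symm }
  have hιt : ι (R.t U e (Frames.cycIsGen he)) = AdjoinRoot.root _ := by
    show chE.symm (res (R.t U e _)) = _
    rw [RingEquiv.symm_apply_eq]
    show res (R.t U e _) = ch (AdjoinRoot.root _)
    refine (R.t_res U V hVU e (Frames.cycIsGen he) heV).trans ?_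
    exact (AdjoinRoot.lift_root _).symm
  have hres : Function.Injective res := by
    refine (injective_iff_map_eq_zero res).2 fun z hz => ?_
    have haff : IsAffineOpen (π ⁻¹ᵁ U.1) := U.2.preimage π
    have hpre : π ⁻¹ᵁ V.1 = Y.basicOpen ((π.app U.1).hom g) := π.preimage_basicOpen g
    obtain ⟨m, hm⟩ : ∃ m : ℕ, (π.app U.1).hom g ^ m * z = 0 := by
      haveI := haff.isLocalization_basicOpen ((π.app U.1).hom g)
      have hz' : algebraMap A Γ(Y, Y.basicOpen ((π.app U.1).hom g)) z = 0 := by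
        have h2 := congrArg (Y.presheaf.map (eqToHom hpre.symm).op).hom hz
        rw [map_zero] at h2
        rw [← h2]
        show (Y.presheaf.map _) z = (Y.presheaf.map _ ≫ Y.presheaf.map _) z
        erw [← Functor.map_comp]
        rfl
      obtain ⟨⟨_, m, rfl⟩, hm⟩ :=
        (IsLocalization.map_eq_zero_iff (Submonoid.powers ((π.app U.1).hom g)) _ z).mp hz'
      exact ⟨m, hm⟩
    refine eq_zero_of_basicOpen_eq_bot z (le_bot_iff.mp fun y hy => ?_)
    exfalso
    obtain ⟨y', hy', hyW⟩ := hW₀'.inter_open_nonempty _ (Y.basicOpen z).2 ⟨y, hy⟩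
    have hy'U : π y' ∈ U.1 := Y.basicOpen_le z hy'
    obtain ⟨h, hhW, hxh⟩ := U.2.exists_basicOpen_le (V := U.1 ⊓ W₀) ⟨π y', hy'U, hyW⟩ hy'U
    let H : X.affineOpens := X.affineBasicOpen h
    have hHU : H.1 ≤ U.1 := X.basicOpen_le h
    letI : Algebra B Γ(X, H.1) := (X.presheaf.map (homOfLE hHU).op).hom.toAlgebra
    haveI : IsLocalization.Away h Γ(X, H.1) := U.2.isLocalization_basicOpen h
    haveI : Nonempty H.1 := ⟨⟨π y', hxh⟩⟩
    haveI : IsDomain Γ(X, H.1) := inferInstance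
    let φH : Γ(X, H.1) := algebraMap B _ φ
    have heH : CycCov.IsGen L H.1 (rs L hHU e) := Frames.cycIsGen (he.res hHU)
    have hφH : SecTwist.val s H.1 = φH • CycCov.lpow L H.1 (rs L hHU e) N :=
      Frames.phi_res s hHU e φ hφ
    have hbH := hchart H (hhW.trans inf_le_right) (rs L hHU e) heH φH hφH
    let zH := (Y.presheaf.map (homOfLE (π.preimage_mono hHU)).op).hom z
    have hzH : zH = 0 := by
      obtain ⟨q, hq⟩ := hbH.2 zH
      obtain ⟨c, hc⟩ := CycAlg.Cover.exists_coord hN φH q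
      have hgH : algebraMap B Γ(X, H.1) g ≠ 0 := fun h0 => hg <| by
        refine CycAlg.Cover.inj_away (g := h) (B' := Γ(X, H.1)) ?_ (h0.trans (map_zero _).symm)
        rintro rfl
        rw [Scheme.basicOpen_zero] at hxh
        exact hxh
      have h3 : algebraMap Γ(X, H.1) (AdjoinRoot (Polynomial.X ^ N - Polynomial.C φH : Polynomial Γ(X, H.1)))
          (algebraMap B Γ(X, H.1) g ^ m) * q = 0 := by
        refine hbH.1 ?_
        rw [map_mul, map_zero, hq]
        have h4 := congrArg (Y.presheaf.map (homOfLE (π.preimage_mono hHU)).op).hom hm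
        rw [map_zero, map_mul, map_pow] at h4
        rw [← h4]
        congr 1
        rw [map_pow, map_pow]
        congr 1
        exact (AdjoinRoot.lift_of _).trans (congr($(π.naturality (homOfLE hHU).op) g))
      rw [hc, Finset.mul_sum] at h3
      have h5 := CycAlg.Cover.coord_eq_zero hN φH (fun j => algebraMap B Γ(X, H.1) g ^ m * c j) (by
        rw [← h3]; exact Finset.sum_congr rfl fun j _ => by rw [map_mul, mul_assoc])
      have hc0 : c = 0 := funext fun j =>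
        (mul_eq_zero.mp (congrFun h5 j)).resolve_left (pow_ne_zero _ hgH)
      rw [← hq, hc, hc0]
      simp
    have h6 : y' ∈ Y.basicOpen zH := by
      rw [Scheme.basicOpen_res]
      exact ⟨hxh, hy'⟩
    rw [hzH, Scheme.basicOpen_zero] at h6
    exact h6
  have hι : Function.Injective ι := chE.symm.injective.comp hres
  have hnorm : ∀ (Q : Ideal A) [Q.IsMaximal], IsDomain (Localization.AtPrime Q) ∧
      IsIntegrallyClosed (Localization.AtPrime Q) := by
    intro Q _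
    have haff : IsAffineOpen (π ⁻¹ᵁ U.1) := U.2.preimage π
    let p : PrimeSpectrum A := ⟨Q, inferInstance⟩
    have hy : haff.fromSpec p ∈ π ⁻¹ᵁ U.1 := by
      have h : haff.fromSpec p ∈ Set.range haff.fromSpec := ⟨p, rfl⟩
      rwa [haff.range_fromSpec] at h
    letI := Y.presheaf.algebra_section_stalk ⟨haff.fromSpec p, hy⟩
    haveI : IsLocalization.AtPrime (Y.presheaf.stalk (haff.fromSpec p)) Q :=
      haff.isLocalization_stalk' p hy
    let E := (IsLocalization.algEquiv Q.primeCompl (Y.presheaf.stalk (haff.fromSpec p))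
      (Localization.AtPrime Q)).toRingEquiv
    obtain ⟨h1, h2⟩ := hR.2.1 (haff.fromSpec p)
    exact ⟨E.symm.injective.isDomain E.symm.toRingHom, IsIntegrallyClosed.of_equiv E⟩
  have hred : ∀ (y : B) (n : ℕ), a ∣ y ^ n → a ∣ y := by
    intro y n hy
    rw [← Ideal.mem_span_singleton] at hy ⊢
    exact hrad ⟨n, hy⟩
  exact exists_generators (B' := B') (g := g) φ a u₀ β rfl hg ⟨g₀, rfl⟩ hN hζ hNu hred hnorm
    (R.t U e (Frames.cycIsGen he)) ι hι hιt

/-- The structure map on the functions over an open. -/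
noncomputable def str {Z : Scheme.{u}} (g : Z ⟶ Spec (CommRingCat.of k)) (U : Z.Opens) : k →+* Γ(Z, U) :=
  (g.appLE ⊤ U le_top).hom.comp (Scheme.ΓSpecIso (CommRingCat.of k)).inv.hom

omit [IsIntegral X] [Smooth f] in
theorem str_res {U V : X.Opens} (h : V ≤ U) (c : k) :
    X.presheaf.map (homOfLE h).op (str f U c) = str f V c := by
  simp only [str, RingHom.comp_apply]
  rw [← CommRingCat.comp_apply, Scheme.Hom.appLE_map]

omit [IsIntegral X] [Smooth f] in
theorem str_comp (U : X.Opens) (c : k) :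
    str (π ≫ f) (π ⁻¹ᵁ U) c = π.app U (str f U c) := by
  have h : (π ≫ f).appLE ⊤ (π ⁻¹ᵁ U) le_top = f.appLE ⊤ U le_top ≫ π.app U := by
    rw [← Scheme.Hom.appLE_eq_app π, Scheme.Hom.appLE_comp_appLE]
  simp only [str, RingHom.comp_apply]
  erw [h]
  rfl

section Chart

variable {Z : Scheme.{u}} (g : Z ⟶ Spec (CommRingCat.of k)) (W : Z.Opens) {n : ℕ}
  (v : ULift.{u} (Fin n) → Γ(W, ⊤))

theorem etale_of_conj {P Q P' Q' : CommRingCat.{u}} (φ : P ⟶ Q) (e : Q ≅ Q') (e' : P ≅ P')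
    (h : ((e.hom.hom).comp φ.hom).comp e'.inv.hom |>.Etale) : φ.hom.Etale := by
  have h1 := RingHom.Etale.respectsIso.2 _ e'.commRingCatIsoToRingEquiv
    (RingHom.Etale.respectsIso.1 _ e.symm.commRingCatIsoToRingEquiv h)
  have h2 : φ = e'.hom ≫ (e'.inv ≫ φ ≫ e.hom) ≫ e.inv := by simp
  rw [h2]
  exact h1

/-- The ring map of a chart over an affine open. -/
noncomputable def chartHom (U : Z.affineOpens) (h : U.1 ≤ W) :
    MvPolynomial (ULift.{u} (Fin n)) k →+* Γ(Z, U.1) :=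
  MvPolynomial.eval₂Hom (str g U.1) fun l => LogNCD.sectOn W h (v l)

theorem chartHom_eq (U : Z.affineOpens) (h : U.1 ≤ W) :
    ((U.1.topIso.hom).hom.comp ((Z.homOfLE h ≫ AffineSpace.homOfVector (W.ι ≫ g) v ≫
      (AffineSpace.SpecIso (ULift.{u} (Fin n)) (CommRingCat.of k)).hom).appTop).hom).comp
        (Scheme.ΓSpecIso (CommRingCat.of (MvPolynomial (ULift.{u} (Fin n)) k))).inv.hom =
      chartHom g W v U h := by
  refine MvPolynomial.ringHom_ext (fun c => ?_) fun i => ?_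
  · rw [chartHom, MvPolynomial.eval₂Hom_C]
    have h2 : (Z.homOfLE h ≫ AffineSpace.homOfVector (W.ι ≫ g) v ≫
        (AffineSpace.SpecIso (ULift.{u} (Fin n)) (CommRingCat.of k)).hom) ≫
        Spec.map (CommRingCat.ofHom (MvPolynomial.C (R := k) (σ := ULift.{u} (Fin n)))) = U.1.ι ≫ g := by
      simp only [Category.assoc]
      rw [show (AffineSpace.SpecIso (ULift.{u} (Fin n)) (CommRingCat.of k)).hom ≫
        Spec.map (CommRingCat.ofHom MvPolynomial.C) = (AffineSpace (ULift.{u} (Fin n)) (Spec (CommRingCat.of k))) ↘ _ by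
          rw [← AffineSpace.SpecIso_inv_over, Iso.hom_inv_id_assoc], AffineSpace.homOfVector_over,
        Scheme.homOfLE_ι_assoc]
    have h3 := congrArg (fun q : (U.1 : Scheme.{u}) ⟶ Spec (CommRingCat.of k) =>
      U.1.topIso.hom (q.appTop ((Scheme.ΓSpecIso (CommRingCat.of k)).inv c))) h2
    simp only [Scheme.Hom.comp_appTop, CommRingCat.comp_apply] at h3
    have h4 : (Spec.map (CommRingCat.ofHom (MvPolynomial.C (R := k) (σ := ULift.{u} (Fin n))))).appTop
        ((Scheme.ΓSpecIso (CommRingCat.of k)).inv c) =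
        (Scheme.ΓSpecIso (CommRingCat.of (MvPolynomial (ULift.{u} (Fin n)) k))).inv (MvPolynomial.C c) := by
      rw [← CommRingCat.comp_apply, ← Scheme.ΓSpecIso_inv_naturality]
      rfl
    rw [h4] at h3
    refine h3.trans ?_
    simp only [str, RingHom.comp_apply]
    change (g.appTop ≫ U.1.ι.appTop ≫ U.1.topIso.hom) _ = _
    congr 2
    rw [Scheme.Hom.appLE, Scheme.Opens.ι_appTop, Scheme.Opens.topIso_hom]
    erw [← Functor.map_comp]
    rfl
  · rw [chartHom, MvPolynomial.eval₂Hom_X']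
    show U.1.topIso.hom ((Z.homOfLE h ≫ AffineSpace.homOfVector (W.ι ≫ g) v ≫
      (AffineSpace.SpecIso (ULift.{u} (Fin n)) (CommRingCat.of k)).hom).appTop
        ((Scheme.ΓSpecIso _).inv (MvPolynomial.X i))) = _
    have h2 : (AffineSpace.SpecIso (ULift.{u} (Fin n)) (CommRingCat.of k)).hom.appTop
        ((Scheme.ΓSpecIso (CommRingCat.of (MvPolynomial (ULift.{u} (Fin n)) k))).inv (MvPolynomial.X i)) =
        AffineSpace.coord (Spec (CommRingCat.of k)) i := by
      rw [← AffineSpace.SpecIso_inv_appTop_coord (R := CommRingCat.of k) i, ← CommRingCat.comp_apply,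
        ← Scheme.Hom.comp_appTop, Iso.hom_inv_id, Scheme.Hom.id_appTop]
      rfl
    simp only [Scheme.Hom.comp_appTop, CommRingCat.comp_apply]
    rw [h2, AffineSpace.homOfVector_appTop_coord]
    change ((Z.homOfLE h).appTop ≫ U.1.topIso.hom) (v i) =
      (W.topIso.hom ≫ Z.presheaf.map (homOfLE h).op) (v i)
    congr 2
    rw [Scheme.Hom.appTop, Scheme.homOfLE_app]
    change Z.presheaf.map _ ≫ Z.presheaf.map _ = Z.presheaf.map _ ≫ Z.presheaf.map _
    erw [← Functor.map_comp, ← Functor.map_comp]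
    exact congrArg _ (Subsingleton.elim _ _)

theorem chartHom_etale (het : Etale (AffineSpace.homOfVector (W.ι ≫ g) v)) (U : Z.affineOpens)
    (h : U.1 ≤ W) : (chartHom g W v U h).Etale := by
  haveI : IsAffine (U.1 : Scheme.{u}) := U.2
  haveI := het
  rw [← chartHom_eq]
  exact RingHom.Etale.respectsIso.2 _
    (Scheme.ΓSpecIso (CommRingCat.of (MvPolynomial (ULift.{u} (Fin n)) k))).symm.commRingCatIsoToRingEquiv
    (RingHom.Etale.respectsIso.1 _ U.1.topIso.commRingCatIsoToRingEquiv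
      (HasRingHomProperty.appTop (P := @Etale) _ inferInstance))

theorem etale_of_chartHom (hW : IsAffineOpen W) (h : (chartHom g W v ⟨W, hW⟩ le_rfl).Etale) :
    Etale (AffineSpace.homOfVector (W.ι ≫ g) v) := by
  haveI : IsAffine (W : Scheme.{u}) := hW
  have h2 : Etale (Z.homOfLE (le_refl W) ≫ AffineSpace.homOfVector (W.ι ≫ g) v ≫
      (AffineSpace.SpecIso (ULift.{u} (Fin n)) (CommRingCat.of k)).hom) := by
    rw [HasRingHomProperty.iff_of_isAffine (P := @Etale)]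
    rw [← chartHom_eq] at h
    exact etale_of_conj _ W.topIso (Scheme.ΓSpecIso _).symm.symm h
  rw [Scheme.homOfLE_rfl, Category.id_comp] at h2
  exact (MorphismProperty.cancel_right_of_respectsIso @Etale _ _).mp h2

end Chart

/-- coordinate hyperplanes of an étale chart are reduced -/
theorem isRadical_span_of_etale {σ B : Type u} [Finite σ] [CommRing B] (ψ : MvPolynomial σ k →+* B)
    (hψ : ψ.Etale) (e : σ) : (Ideal.span ({ψ (MvPolynomial.X e)} : Set B)).IsRadical := by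
  obtain ⟨-, h⟩ := Base.regular_quotient_of_etale ψ hψ e
  refine (Ideal.isRadical_iff_quotient_reduced _).mpr ?_
  refine isReduced_ofLocalizationMaximal _ fun P _ => ?_
  haveI := h P
  haveI := Lib.Regular.Quotient.isDomain (Localization.AtPrime P)
  infer_instance

variable {r : ℕ} (D : Fin r → X.IdealSheafData) (α : Fin r → ℕ)

set_option maxHeartbeats 1600000 in
include f R in
theorem isNCD [IsAlgClosed k] (hL : PicF.IsInvertible L) (hN : 0 < N) (hNk : (N : k) ≠ 0)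
    (hD : LogNCD.IsNCD D f) (hs : CycCov.IsZeroDiv (CohB1.tensorPow L N) s (CycCov.divIdeal D α))
    (hR : CycCov.IsCover R)
    (hdisj : ∀ (x : X) (j j' : Fin r), 0 < α j → 0 < α j' → x ∈ (D j).support → x ∈ (D j').support → j = j') :
    LogNCD.IsNCD (fun j : Fin r => ((D j).comap π).radical) (π ≫ f) := by
  classical
  haveI := hR.1
  intro y hy
  have hsupp : ∀ j, y ∈ ((D j).comap π).radical.support ↔ π y ∈ (D j).support := fun j => by
    simp only [Scheme.IdealSheafData.support_radical, Scheme.IdealSheafData.support_comap]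
    rfl
  obtain ⟨⟨j₁, hj₁⟩⟩ := hy
  obtain ⟨j₀, hj₀, hj₀'⟩ : ∃ j₀, π y ∈ (D j₀).support ∧ ∀ j, 0 < α j → π y ∈ (D j).support → j = j₀ := by
    by_cases h : ∃ j, 0 < α j ∧ π y ∈ (D j).support
    · obtain ⟨j, hj, hxj⟩ := h
      exact ⟨j, hxj, fun j' hj' hxj' => hdisj (π y) j' j hj' hj hxj' hxj⟩
    · exact ⟨j₁, (hsupp j₁).mp hj₁, fun j hj hxj => absurd ⟨j, hj, hxj⟩ h⟩
  obtain ⟨W₃, hxW₃, n, v, ε, hε, het, heq, htop⟩ := hD (π y) ⟨⟨j₀, hj₀⟩⟩
  obtain ⟨W₁, e₁, hxW₁, he₁⟩ := (isInvertible_iff.mp hL) (π y)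
  obtain ⟨U, hU, hxU, hle⟩ := exists_isAffineOpen_mem_and_subset (X := X) (x := π y)
    (U := W₁ ⊓ W₃) ⟨hxW₁, hxW₃⟩
  let U' : X.affineOpens := ⟨U, hU⟩
  haveI : Nonempty U'.1 := ⟨⟨π y, hxU⟩⟩
  have hU₃ : U'.1 ≤ W₃ := fun z hz => (hle hz).2
  have hU₁ : U'.1 ≤ W₁ := fun z hz => (hle hz).1
  have he := he₁.res hU₁
  let xv : Fin n → Γ(X, U'.1) := fun l => LogNCD.sectOn W₃ hU₃ (v (ULift.up l))
  let e₀ : Fin n := ε ⟨j₀, hj₀⟩
  let a := xv e₀
  have hψ := chartHom_etale f W₃ v het U' hU₃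
  have hXl : ∀ l, chartHom f W₃ v U' hU₃ (MvPolynomial.X (ULift.up l)) = xv l := fun l =>
    MvPolynomial.eval₂Hom_X' _ _ _
  have hrad : (Ideal.span ({a} : Set Γ(X, U'.1))).IsRadical := by
    have := isRadical_span_of_etale _ hψ (ULift.up e₀)
    rwa [hXl] at this
  have ha0 : a ≠ 0 := by
    have := (Base.regular_quotient_of_etale _ hψ (ULift.up e₀)).1 inferInstance
    rwa [hXl] at this
  obtain ⟨φ, hφ⟩ := Frames.exists_phi s he
  have hspan := Frames.span_phi s hs U' he φ hφ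
  have hother : ∀ j, j ≠ j₀ → (D j).ideal U' ^ α j = 1 := by
    intro j hne
    rcases Nat.eq_zero_or_pos (α j) with h0 | h0
    · rw [h0, pow_zero]
    · rw [htop j (fun h => hne (hj₀' j h0 h)) U' hU₃, ← Ideal.one_eq_top, one_pow]
  rw [Base.divIdeal_ideal, Fintype.prod_eq_single j₀ hother, heq ⟨j₀, hj₀⟩ U' hU₃,
    Ideal.span_singleton_pow, Ideal.span_singleton_eq_span_singleton] at hspan
  obtain ⟨u₀, hu₀⟩ := hspan
  have hφ' : SecTwist.val s U'.1 = ((u₀ : Γ(X, U'.1)) * a ^ α j₀) • CycCov.lpow L U'.1 (rs L hU₁ e₁) N := by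
    rw [hφ, ← hu₀, mul_comm]
  obtain ⟨σ, ω, d, m, i, hdN, hm, -, hω, hσ, hgen, hflat⟩ :=
    local_generators f R hN hNk hR U' he a u₀ (α j₀) hφ' ha0 hrad
  letI : Algebra Γ(X, U'.1) Γ(Y, π ⁻¹ᵁ U'.1) := (π.app U'.1).hom.toAlgebra
  haveI := hflat
  haveI : Module.Finite Γ(X, U'.1) Γ(Y, π ⁻¹ᵁ U'.1) := π.finite_app U'.1 U'.2
  letI : Algebra k Γ(X, U'.1) := (str f U'.1).toAlgebra
  letI : Algebra k Γ(Y, π ⁻¹ᵁ U'.1) := (str (π ≫ f) (π ⁻¹ᵁ U'.1)).toAlgebra
  haveI : IsScalarTower k Γ(X, U'.1) Γ(Y, π ⁻¹ᵁ U'.1) :=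
    IsScalarTower.of_algebraMap_eq fun c => str_comp f U'.1 c
  have hxv : (MvPolynomial.aeval xv : MvPolynomial (Fin n) k →ₐ[k] Γ(X, U'.1)).toRingHom.Etale := by
    let r₀ := (MvPolynomial.renameEquiv k (Equiv.ulift.{u, 0} (α := Fin n)).symm).toRingEquiv
    have := RingHom.Etale.respectsIso.2 _ r₀ hψ
    convert this using 1
    refine MvPolynomial.ringHom_ext (fun c => ?_) fun l => ?_
    · simp [r₀, chartHom]; rfl
    · simp [r₀, chartHom, xv]
  have hdk : (d : k) ≠ 0 := fun h => hNk (by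
    obtain ⟨c, rfl⟩ := hdN; rw [Nat.cast_mul, h, zero_mul])
  obtain ⟨δ, ⟨c, hc⟩, hδ⟩ := exists_etale_away xv hxv e₀ σ ω u₀ d m i hdk hω hσ hgen
  have hd0 : d ≠ 0 := fun h => hdk (by rw [h]; exact Nat.cast_zero)
  have hωu : IsUnit ω := (isUnit_pow_iff hd0).mp (hω ▸ u₀.isUnit.map _)
  have hyA : y ∈ π ⁻¹ᵁ U'.1 := hxU
  have hyδ : y ∈ Y.basicOpen δ := by
    have hxa : π y ∉ X.basicOpen a := fun hb => by
      have h1 := (Scheme.IdealSheafData.mem_support_iff_of_mem (I := D j₀) (U := U') hxU).mp hj₀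
      rw [heq ⟨j₀, hj₀⟩ U' hU₃, Scheme.zeroLocus_span] at h1
      exact (Scheme.mem_zeroLocus_iff _ _ _).mp h1 _ (Set.mem_singleton _) hb
    have hya : y ∉ Y.basicOpen (algebraMap Γ(X, U'.1) Γ(Y, π ⁻¹ᵁ U'.1) a) := by
      rw [show Y.basicOpen (algebraMap Γ(X, U'.1) Γ(Y, π ⁻¹ᵁ U'.1) a) = π ⁻¹ᵁ X.basicOpen a from
        (π.preimage_basicOpen a).symm]
      exact hxa
    rw [Scheme.mem_basicOpen _ _ _ hyA] at hya ⊢
    set G := (Y.presheaf.germ _ y hyA).hom
    by_contra hcon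
    have h1 : G δ ∈ IsLocalRing.maximalIdeal _ := (IsLocalRing.mem_maximalIdeal _).mpr hcon
    have h2 : G (c * algebraMap Γ(X, U'.1) Γ(Y, π ⁻¹ᵁ U'.1) a) ∈ IsLocalRing.maximalIdeal _ := by
      rw [map_mul]
      exact Ideal.mul_mem_left _ _ ((IsLocalRing.mem_maximalIdeal _).mpr hya)
    have h3 : G (ω ^ i) ∈ IsLocalRing.maximalIdeal _ := by
      have h4 := sub_mem h1 h2
      rwa [← map_sub, hc, add_sub_cancel_right] at h4
    exact (IsLocalRing.mem_maximalIdeal _).mp h3 ((hωu.pow i).map G)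
  have hV : IsAffineOpen (Y.basicOpen δ) := (U'.2.preimage π).basicOpen δ
  let V : Y.affineOpens := ⟨Y.basicOpen δ, hV⟩
  have hVU : V.1 ≤ π ⁻¹ᵁ U'.1 := Y.basicOpen_le δ
  letI : Algebra Γ(Y, π ⁻¹ᵁ U'.1) Γ(Y, V.1) := (Y.presheaf.map (homOfLE hVU).op).hom.toAlgebra
  haveI : IsLocalization.Away δ Γ(Y, V.1) := (U'.2.preimage π).isLocalization_basicOpen δ
  letI : Algebra k Γ(Y, V.1) := (str (π ≫ f) V.1).toAlgebra
  haveI : IsScalarTower k Γ(Y, π ⁻¹ᵁ U'.1) Γ(Y, V.1) :=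
    IsScalarTower.of_algebraMap_eq fun c => (str_res (π ≫ f) hVU c).symm
  have hetC := hδ Γ(Y, V.1)
  let w : Fin n → Γ(Y, V.1) := fun l => algebraMap Γ(Y, π ⁻¹ᵁ U'.1) Γ(Y, V.1)
    (Function.update (fun l => algebraMap Γ(X, U'.1) Γ(Y, π ⁻¹ᵁ U'.1) (xv l)) e₀ σ l)
  let v' : ULift.{u} (Fin n) → Γ(V.1, ⊤) := fun l => V.1.topIso.inv (w l.down)
  have hsect : ∀ (T : Y.affineOpens) (h : T.1 ≤ V.1) (l : Fin n),
      LogNCD.sectOn V.1 h (v' (ULift.up l)) = Y.presheaf.map (homOfLE h).op (w l) := fun T h l => by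
    rw [LogNCD.sectOn_apply, show V.1.topIso.hom (v' (ULift.up l)) = w l from by
      simp only [v']; rw [← CommRingCat.comp_apply, Iso.inv_hom_id]; rfl]
  have hw : ∀ l, LogNCD.sectOn V.1 (le_refl V.1) (v' (ULift.up l)) = w l := fun l => by
    rw [hsect V le_rfl]; simp
  have hch : (chartHom (π ≫ f) V.1 v' V le_rfl).Etale := by
    let r₀ := (MvPolynomial.renameEquiv k (Equiv.ulift.{u, 0} (α := Fin n))).toRingEquiv
    have := RingHom.Etale.respectsIso.2 _ r₀ hetC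
    convert this using 1
    refine MvPolynomial.ringHom_ext (fun c => ?_) fun l => ?_
    · simp [r₀, chartHom]; rfl
    · simpa [r₀, chartHom] using hw l.down
  let ε' : LogNCD.Through (fun j : Fin r => ((D j).comap π).radical) y → Fin n := fun j =>
    ε ⟨j.1, (hsupp j.1).mp j.2⟩
  refine ⟨V.1, hyδ, n, v', ε', fun p q h => by
    have := congrArg Subtype.val (hε h); exact Subtype.ext this,
    etale_of_chartHom _ _ _ hV hch, fun p T h => ?_, fun j hj T h => ?_⟩
  · have hradw : ∀ l, (Ideal.span ({w l} : Set Γ(Y, V.1))).IsRadical := fun l => by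
      have := isRadical_span_of_etale _ hch (ULift.up l)
      rwa [show chartHom (π ≫ f) V.1 v' V le_rfl (MvPolynomial.X (ULift.up l)) = w l from
        (MvPolynomial.eval₂Hom_X' _ _ _).trans (hw l)] at this
    rw [hsect T h, ← Set.image_singleton, ← Ideal.map_span,
      ← ((D p.1).comap π).radical.map_ideal (U := T) (V := V) h]
    congr 1
    rw [Scheme.IdealSheafData.radical_ideal, Lib.Ideal.Comap.ideal_comap π (D p.1) U' V hVU,
      heq ⟨p.1, (hsupp p.1).mp p.2⟩ U' hU₃, Ideal.map_span, Set.image_singleton]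
    change (Ideal.span ({(π.appLE U'.1 V.1 hVU).hom (xv (ε' p))} : Set Γ(Y, V.1))).radical = _
    have happ : ∀ b, (π.appLE U'.1 V.1 hVU).hom b =
        algebraMap Γ(Y, π ⁻¹ᵁ U'.1) Γ(Y, V.1) (algebraMap Γ(X, U'.1) Γ(Y, π ⁻¹ᵁ U'.1) b) :=
      fun b => rfl
    rw [happ]
    by_cases hl : ε' p = e₀
    · have hu : IsUnit (algebraMap Γ(Y, π ⁻¹ᵁ U'.1) Γ(Y, V.1) (ω ^ i)) := (hωu.pow i).map _
      rw [hl, ← Ideal.span_singleton_mul_left_unit hu, ← map_mul]
      rw [show ω ^ i * algebraMap Γ(X, U'.1) Γ(Y, π ⁻¹ᵁ U'.1) (xv e₀) = σ ^ m from hσ.symm, map_pow,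
        ← Ideal.span_singleton_pow, Ideal.radical_pow _ hm.ne']
      have : w e₀ = algebraMap Γ(Y, π ⁻¹ᵁ U'.1) Γ(Y, V.1) σ := by simp [w]
      rw [← this]
      exact (hradw e₀).radical
    · have : w (ε' p) = algebraMap Γ(Y, π ⁻¹ᵁ U'.1) Γ(Y, V.1)
          (algebraMap Γ(X, U'.1) Γ(Y, π ⁻¹ᵁ U'.1) (xv (ε' p))) := by simp [w, hl]
      rw [← this]
      exact (hradw (ε' p)).radical
  · rw [← ((D j).comap π).radical.map_ideal (U := T) (V := V) h,
      Scheme.IdealSheafData.radical_ideal, Lib.Ideal.Comap.ideal_comap π (D j) U' V hVU,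
      htop j (fun h' => hj ((hsupp j).mpr h')) U' hU₃, Ideal.map_top, Ideal.radical_top, Ideal.map_top]

end Groth.Agent.H12.CycNCD
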